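import Mathlib
import Cfsg.Prelude.Def_Spor_Fi23

/-! Auxiliary presentations on sub-diagrams of the presentation of Fi23 (generated). -/

set_option autoImplicit false

namespace Cfsg.Agent.Helper28.F23

namespace Q1

/-- the generators -/
inductive Gen
  | a
  | b
  | c
  | d
  | e
  | f
  | g
  | h
  | i
  deriving DecidableEq

/-- a generator as a word -/
abbrev a : FreeGroup Gen := FreeGroup.of Gen.a
/-- a generator as a word -/
abbrev b : FreeGroup Gen := FreeGroup.of Gen.b
/-- a generator as a word -/
abbrev c : FreeGroup Gen := FreeGroup.of Gen.c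
/-- a generator as a word -/
abbrev d : FreeGroup Gen := FreeGroup.of Gen.d
/-- a generator as a word -/
abbrev e : FreeGroup Gen := FreeGroup.of Gen.e
/-- a generator as a word -/
abbrev f : FreeGroup Gen := FreeGroup.of Gen.f
/-- a generator as a word -/
abbrev g : FreeGroup Gen := FreeGroup.of Gen.g
/-- a generator as a word -/
abbrev h : FreeGroup Gen := FreeGroup.of Gen.h
/-- a generator as a word -/
abbrev i : FreeGroup Gen := FreeGroup.of Gen.i

/-- the Coxeter graph -/
def edges : List (Gen × ℕ × Gen) :=
  [(.a, 3, .b), (.b, 3, .c), (.c, 3, .d), (.d, 3, .e), (.d, 3, .h), (.e, 3, .f), (.f, 3, .g), (.h, 3, .i)]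

/-- the further relators -/
def extra : List (FreeGroup Gen) := [(d * c * b * d * e * f * d * h * i) ^ 10,
  (a * b * c * d * e * f * h) ^ 9]

/-- the inclusion of the generators -/
def inc : Gen → Cfsg.Spor.Fi23.Gen
  | .a => .a
  | .b => .b
  | .c => .c
  | .d => .d
  | .e => .e
  | .f => .f
  | .g => .g
  | .h => .h
  | .i => .i

end Q1

namespace Q2

/-- the generators -/
inductive Gen
  | b
  | c
  | d
  | e
  | f
  | g
  | h
  | i
  deriving DecidableEq

/-- a generator as a word -/
abbrev b : FreeGroup Gen := FreeGroup.of Gen.b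
/-- a generator as a word -/
abbrev c : FreeGroup Gen := FreeGroup.of Gen.c
/-- a generator as a word -/
abbrev d : FreeGroup Gen := FreeGroup.of Gen.d
/-- a generator as a word -/
abbrev e : FreeGroup Gen := FreeGroup.of Gen.e
/-- a generator as a word -/
abbrev f : FreeGroup Gen := FreeGroup.of Gen.f
/-- a generator as a word -/
abbrev g : FreeGroup Gen := FreeGroup.of Gen.g
/-- a generator as a word -/
abbrev h : FreeGroup Gen := FreeGroup.of Gen.h
/-- a generator as a word -/
abbrev i : FreeGroup Gen := FreeGroup.of Gen.i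

/-- the Coxeter graph -/
def edges : List (Gen × ℕ × Gen) :=
  [(.b, 3, .c), (.c, 3, .d), (.d, 3, .e), (.d, 3, .h), (.e, 3, .f), (.f, 3, .g), (.h, 3, .i)]

/-- the further relators -/
def extra : List (FreeGroup Gen) := [(d * c * b * d * e * f * d * h * i) ^ 10]

/-- the inclusion of the generators -/
def inc : Gen → Cfsg.Spor.Fi23.Gen
  | .b => .b
  | .c => .c
  | .d => .d
  | .e => .e
  | .f => .f
  | .g => .g
  | .h => .h
  | .i => .i

end Q2

namespace Q3

/-- the generators -/
inductive Gen
  | b
  | c
  | d
  | e
  | f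
  | g
  | h
  deriving DecidableEq

/-- a generator as a word -/
abbrev b : FreeGroup Gen := FreeGroup.of Gen.b
/-- a generator as a word -/
abbrev c : FreeGroup Gen := FreeGroup.of Gen.c
/-- a generator as a word -/
abbrev d : FreeGroup Gen := FreeGroup.of Gen.d
/-- a generator as a word -/
abbrev e : FreeGroup Gen := FreeGroup.of Gen.e
/-- a generator as a word -/
abbrev f : FreeGroup Gen := FreeGroup.of Gen.f
/-- a generator as a word -/
abbrev g : FreeGroup Gen := FreeGroup.of Gen.g
/-- a generator as a word -/
abbrev h : FreeGroup Gen := FreeGroup.of Gen.h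

/-- the Coxeter graph -/
def edges : List (Gen × ℕ × Gen) :=
  [(.b, 3, .c), (.c, 3, .d), (.d, 3, .e), (.d, 3, .h), (.e, 3, .f), (.f, 3, .g)]

/-- the further relators -/
def extra : List (FreeGroup Gen) := []

/-- the inclusion of the generators -/
def inc : Gen → Cfsg.Spor.Fi23.Gen
  | .b => .b
  | .c => .c
  | .d => .d
  | .e => .e
  | .f => .f
  | .g => .g
  | .h => .h

end Q3

namespace Q4

/-- the generators -/
inductive Gen
  | b
  | c
  | d
  | e
  | f
  deriving DecidableEq

/-- a generator as a word -/
abbrev b : FreeGroup Gen := FreeGroup.of Gen.b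
/-- a generator as a word -/
abbrev c : FreeGroup Gen := FreeGroup.of Gen.c
/-- a generator as a word -/
abbrev d : FreeGroup Gen := FreeGroup.of Gen.d
/-- a generator as a word -/
abbrev e : FreeGroup Gen := FreeGroup.of Gen.e
/-- a generator as a word -/
abbrev f : FreeGroup Gen := FreeGroup.of Gen.f

/-- the Coxeter graph -/
def edges : List (Gen × ℕ × Gen) :=
  [(.b, 3, .c), (.c, 3, .d), (.d, 3, .e), (.e, 3, .f)]

/-- the further relators -/
def extra : List (FreeGroup Gen) := []

/-- the inclusion of the generators -/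
def inc : Gen → Cfsg.Spor.Fi23.Gen
  | .b => .b
  | .c => .c
  | .d => .d
  | .e => .e
  | .f => .f

end Q4

end Cfsg.Agent.Helper28.F23
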