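import Cfsg.Agent.Helper28.Grp2
import Cfsg.Agent.Helper28.F23.Order
import Cfsg.Agent.Helper28.F23L.All
import Cfsg.Agent.Helper28.C1689.OrbAll

/-!
# The presented group Fi23 is simple of order 4089470473293004800 (helper28)

Order: a tower of subgroups with coset enumeration certificates bounds the order from above, a
stabiliser chain in the permutation representation on 31671 points bounds it from below; so this
representation is faithful.  Simplicity: Iwasawa's criterion for the action on the 31671 points, whose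
point stabiliser is maximal (rank 3, suborbits 1 + 3510 + 28160) and has the element `(bcdefgh)^9`,
a conjugate of the generator `j`, in its centre.
-/

set_option autoImplicit false

namespace Cfsg.Agent.Helper28.F23

open Cfsg.Spor

/-- the point stabiliser of the action on 31671 points -/
noncomputable abbrev H1 : Subgroup Fi23 :=
  (Subgroup.closure ({Cfsg.Spor.Fi23.a, Cfsg.Spor.Fi23.b, Cfsg.Spor.Fi23.c, Cfsg.Spor.Fi23.d, Cfsg.Spor.Fi23.e, Cfsg.Spor.Fi23.f, Cfsg.Spor.Fi23.g, Cfsg.Spor.Fi23.h, Cfsg.Spor.Fi23.i} : Set (FreeGroup Cfsg.Spor.Fi23.Gen))).map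
    (PresentedGroup.mk (Cfsg.Spor.coxRelators Cfsg.Spor.Fi23.edges ∪ {r | r ∈ Cfsg.Spor.Fi23.extra}))

/-- the central element `(bcdefgh)^9` of the point stabiliser -/
noncomputable def t : Fi23 :=
  (Cfsg.Agent.Helper28.F23L.t_w.map (Cfsg.Agent.Helper28.coxVal Fi23.edges Fi23.extra
    Cfsg.Agent.Helper28.C1689.gen Cfsg.Agent.Helper28.C1689.D.jc)).prod

theorem card_inj : Nat.card Fi23 = 4089470473293004800 ∧
    Function.Injective Cfsg.Agent.Helper28.C1689.cert.perm := by
  obtain ⟨hfin, hle⟩ := card_le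
  have hlb := Cfsg.Agent.Helper28.F23L.lb_chain
  have e1 : 31671 * 28160 * 21840 * 7776 * 27 = 4089470473293004800 := by norm_num
  have e2 : 31671 * (14080 * (3159 * (4032 * (720)))) = 4089470473293004800 := by norm_num
  rw [e1] at hlb
  rw [e2] at hle
  exact Cfsg.Agent.Helper28.C1689.cert.card_inj 4089470473293004800 (by norm_num) _ hfin hle hlb

theorem card_eq : Nat.card Fi23 = 4089470473293004800 := card_inj.1

theorem inj : Function.Injective Cfsg.Agent.Helper28.C1689.cert.perm := card_inj.2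

theorem finite : Finite Fi23 := card_le.1

theorem nontrivial : Nontrivial Fi23 := by
  have := finite
  rw [← Finite.one_lt_card_iff_nontrivial, card_eq]
  norm_num

/-! ### perfect -/

theorem ab_all (x : Fi23.Gen) :
    Abelianization.of (PresentedGroup.of x : Fi23) = Abelianization.of (PresentedGroup.of Fi23.Gen.a : Fi23) := by
  have hb := cox_ab_edge Fi23.edges Fi23.extra Fi23.Gen.a Fi23.Gen.b (node _) (node _) (by decide)
  have hc := cox_ab_edge Fi23.edges Fi23.extra Fi23.Gen.b Fi23.Gen.c (node _) (node _) (by decide)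
  have hd := cox_ab_edge Fi23.edges Fi23.extra Fi23.Gen.c Fi23.Gen.d (node _) (node _) (by decide)
  have he := cox_ab_edge Fi23.edges Fi23.extra Fi23.Gen.d Fi23.Gen.e (node _) (node _) (by decide)
  have hf := cox_ab_edge Fi23.edges Fi23.extra Fi23.Gen.e Fi23.Gen.f (node _) (node _) (by decide)
  have hg := cox_ab_edge Fi23.edges Fi23.extra Fi23.Gen.f Fi23.Gen.g (node _) (node _) (by decide)
  have hj := cox_ab_edge Fi23.edges Fi23.extra Fi23.Gen.g Fi23.Gen.j (node _) (node _) (by decide)
  have hh := cox_ab_edge Fi23.edges Fi23.extra Fi23.Gen.d Fi23.Gen.h (node _) (node _) (by decide)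
  have hi := cox_ab_edge Fi23.edges Fi23.extra Fi23.Gen.h Fi23.Gen.i (node _) (node _) (by decide)
  cases x
  · rfl
  · rw [← hb]
  · rw [← hc, ← hb]
  · rw [← hd, ← hc, ← hb]
  · rw [← he, ← hd, ← hc, ← hb]
  · rw [← hf, ← he, ← hd, ← hc, ← hb]
  · rw [← hg, ← hf, ← he, ← hd, ← hc, ← hb]
  · rw [← hj, ← hg, ← hf, ← he, ← hd, ← hc, ← hb]
  · rw [← hh, ← hd, ← hc, ← hb]
  · rw [← hi, ← hh, ← hd, ← hc, ← hb]

theorem ab_one (x : Fi23.Gen) : Abelianization.of (PresentedGroup.of x : Fi23) = 1 := by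
  rw [ab_all x]
  have h2 := cox_ab_sq Fi23.edges Fi23.extra Fi23.Gen.a (node _)
  have hrel : (PresentedGroup.mk (coxRelators Fi23.edges ∪ {r | r ∈ Fi23.extra})
      ((Fi23.a * Fi23.b * Fi23.c * Fi23.d * Fi23.e * Fi23.f * Fi23.h) ^ 9) : Fi23) = 1 :=
    PresentedGroup.one_of_mem (Or.inr (by simp [Fi23.extra]))
  have h63 := congrArg (Abelianization.of : Fi23 →* Abelianization Fi23) hrel
  rw [map_pow, map_mul, map_mul, map_mul, map_mul, map_mul, map_mul, map_one] at h63
  have h63' : (Abelianization.of (PresentedGroup.of Fi23.Gen.a : Fi23) *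
      Abelianization.of (PresentedGroup.of Fi23.Gen.b : Fi23) *
      Abelianization.of (PresentedGroup.of Fi23.Gen.c : Fi23) *
      Abelianization.of (PresentedGroup.of Fi23.Gen.d : Fi23) *
      Abelianization.of (PresentedGroup.of Fi23.Gen.e : Fi23) *
      Abelianization.of (PresentedGroup.of Fi23.Gen.f : Fi23) *
      Abelianization.of (PresentedGroup.of Fi23.Gen.h : Fi23)) ^ 9 = 1 := h63
  rw [ab_all Fi23.Gen.b, ab_all Fi23.Gen.c, ab_all Fi23.Gen.d, ab_all Fi23.Gen.e, ab_all Fi23.Gen.f,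
    ab_all Fi23.Gen.h] at h63'
  clear h63
  generalize Abelianization.of (PresentedGroup.of Fi23.Gen.a : Fi23) = v at *
  have h7 : v * v * v * v * v * v * v = v ^ 7 := by
    simp only [pow_succ, pow_zero, one_mul]
  rw [h7, ← pow_mul] at h63'
  exact eq_one_of_sq_of_pow_odd v h2 (7 * 9) (by decide) h63'

theorem perfect : commutator Fi23 = ⊤ :=
  commutator_eq_top_of_gens _ ab_one

/-! ### the normal closure of `t` -/

theorem conj_j : ∃ U : Fi23, U * t * U⁻¹ = PresentedGroup.of Fi23.Gen.j :=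
  ⟨_, Cfsg.Agent.Helper28.C1689.cert.conj_of_col inj Cfsg.Agent.Helper28.F23L.t_w
    Cfsg.Agent.Helper28.F23L.t_w_let Cfsg.Agent.Helper28.F23L.t_tau
    Cfsg.Agent.Helper28.F23L.col_t_all Cfsg.Agent.Helper28.F23L.t_u0
    Cfsg.Agent.Helper28.F23L.t_u0_let 7 (by decide +kernel)
    Cfsg.Agent.Helper28.F23L.conj_t_0_all⟩

theorem normalClosure_t : Subgroup.normalClosure ({t} : Set Fi23) = ⊤ := by
  have hN : (Subgroup.normalClosure ({t} : Set Fi23)).Normal := Subgroup.normalClosure_normal
  have ht : t ∈ Subgroup.normalClosure ({t} : Set Fi23) :=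
    Subgroup.subset_normalClosure (Set.mem_singleton _)
  have hj : (PresentedGroup.of Fi23.Gen.j : Fi23) ∈ Subgroup.normalClosure ({t} : Set Fi23) := by
    obtain ⟨U, hU⟩ := conj_j
    rw [← hU]
    exact hN.conj_mem _ ht _
  have hg := cox_normal_edge Fi23.edges Fi23.extra _ hN Fi23.Gen.j Fi23.Gen.g (node _) (node _) (by decide) hj
  have hf := cox_normal_edge Fi23.edges Fi23.extra _ hN Fi23.Gen.g Fi23.Gen.f (node _) (node _) (by decide) hg
  have he := cox_normal_edge Fi23.edges Fi23.extra _ hN Fi23.Gen.f Fi23.Gen.e (node _) (node _) (by decide) hf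
  have hd := cox_normal_edge Fi23.edges Fi23.extra _ hN Fi23.Gen.e Fi23.Gen.d (node _) (node _) (by decide) he
  have hc := cox_normal_edge Fi23.edges Fi23.extra _ hN Fi23.Gen.d Fi23.Gen.c (node _) (node _) (by decide) hd
  have hb := cox_normal_edge Fi23.edges Fi23.extra _ hN Fi23.Gen.c Fi23.Gen.b (node _) (node _) (by decide) hc
  have ha := cox_normal_edge Fi23.edges Fi23.extra _ hN Fi23.Gen.b Fi23.Gen.a (node _) (node _) (by decide) hb
  have hh := cox_normal_edge Fi23.edges Fi23.extra _ hN Fi23.Gen.d Fi23.Gen.h (node _) (node _) (by decide) hd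
  have hi := cox_normal_edge Fi23.edges Fi23.extra _ hN Fi23.Gen.h Fi23.Gen.i (node _) (node _) (by decide) hh
  rw [eq_top_iff, ← PresentedGroup.closure_range_of]
  apply (Subgroup.closure_le _).mpr
  rintro _ ⟨x, rfl⟩
  cases x
  · exact ha
  · exact hb
  · exact hc
  · exact hd
  · exact he
  · exact hf
  · exact hg
  · exact hj
  · exact hh
  · exact hi

/-! ### `t` is central in the point stabiliser -/

theorem comm_gen (k : ℕ) (hk : k ∈ Cfsg.Agent.Helper28.F23L.t_ks)
    (hkj : k < Cfsg.Agent.Helper28.C1689.D.jc) :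
    (PresentedGroup.of (Cfsg.Agent.Helper28.C1689.gen k) : Fi23) * t =
      t * PresentedGroup.of (Cfsg.Agent.Helper28.C1689.gen k) :=
  Cfsg.Agent.Helper28.C1689.cert.comm_of_col inj Cfsg.Agent.Helper28.F23L.t_w
    Cfsg.Agent.Helper28.F23L.t_w_let Cfsg.Agent.Helper28.F23L.t_tau
    Cfsg.Agent.Helper28.F23L.col_t_all Cfsg.Agent.Helper28.F23L.t_ks
    Cfsg.Agent.Helper28.F23L.comm_t_all k hk hkj

theorem t_central : ∀ h ∈ H1, h * t = t * h := by
  have hle : H1 ≤ Subgroup.centralizer ({t} : Set Fi23) := by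
    unfold H1
    rw [MonoidHom.map_closure]
    apply (Subgroup.closure_le _).mpr
    rintro _ ⟨s, hs, rfl⟩
    rw [SetLike.mem_coe, Subgroup.mem_centralizer_iff]
    intro y hy
    rw [Set.mem_singleton_iff.mp hy]
    simp only [Set.mem_insert_iff, Set.mem_singleton_iff] at hs
    rcases hs with rfl | rfl | rfl | rfl | rfl | rfl | rfl | rfl | rfl
    · exact (comm_gen 0 (by decide) (by decide +kernel)).symm
    · exact (comm_gen 1 (by decide) (by decide +kernel)).symm
    · exact (comm_gen 2 (by decide) (by decide +kernel)).symm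
    · exact (comm_gen 3 (by decide) (by decide +kernel)).symm
    · exact (comm_gen 4 (by decide) (by decide +kernel)).symm
    · exact (comm_gen 5 (by decide) (by decide +kernel)).symm
    · exact (comm_gen 6 (by decide) (by decide +kernel)).symm
    · exact (comm_gen 8 (by decide) (by decide +kernel)).symm
    · exact (comm_gen 9 (by decide) (by decide +kernel)).symm
  intro h hh
  have := Subgroup.mem_centralizer_iff.mp (hle hh) _ (Set.mem_singleton _)
  exact this.symm

/-! ### maximality of the point stabiliser -/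

theorem maximal (L : Subgroup Fi23) (hL : H1 ≤ L) : L = H1 ∨ L = ⊤ := by
  obtain ⟨e, he, _⟩ := Cfsg.Agent.Helper28.C1689.cert.exists_equiv
  have o1 := Cfsg.Agent.Helper28.C1689.cert.orbit_cert e he 3510 Cfsg.Agent.Helper28.C1689.ov1 Cfsg.Agent.Helper28.C1689.op1 Cfsg.Agent.Helper28.C1689.otp1 Cfsg.Agent.Helper28.C1689.otw1 (by decide) Cfsg.Agent.Helper28.C1689.orb1_all Cfsg.Agent.Helper28.C1689.ov1_lt
  have o2 := Cfsg.Agent.Helper28.C1689.cert.orbit_cert e he 28160 Cfsg.Agent.Helper28.C1689.ov2 Cfsg.Agent.Helper28.C1689.op2 Cfsg.Agent.Helper28.C1689.otp2 Cfsg.Agent.Helper28.C1689.otw2 (by decide) Cfsg.Agent.Helper28.C1689.orb2_all Cfsg.Agent.Helper28.C1689.ov2_lt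
  have hidx : H1.index = 31671 := Cfsg.Agent.Helper28.C1689.cert.index_eq
  have h1 := o1.1
  have h2 := o2.1
  refine maximal_of_orbits' H1
    ![e.symm ⟨Cfsg.Agent.Helper28.C1689.ov1 0, Cfsg.Agent.Helper28.C1689.ov1_lt⟩,
      e.symm ⟨Cfsg.Agent.Helper28.C1689.ov2 0, Cfsg.Agent.Helper28.C1689.ov2_lt⟩]
    ![3510, 28160] ?_ ?_ ?_ ?_ ?_ L hL
  · intro i
    fin_cases i
    · exact h1
    · exact h2
  · decide
  · decide
  · rw [hidx, Fin.sum_univ_two]
    rfl
  · rw [hidx]
    decide

/-! ### simplicity -/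

theorem core_trivial (N : Subgroup Fi23) (hN : N.Normal) (hle : N ≤ H1) : N = ⊥ := by
  have h1 := Cfsg.Agent.Helper28.C1689.cert.normal_le_ker N hN hle
  rw [(MonoidHom.ker_eq_bot_iff _).mpr inj] at h1
  exact le_bot_iff.mp h1

theorem simple : IsSimpleGroup Fi23 := by
  have := nontrivial
  refine iwasawa_simple H1 (Subgroup.zpowers t) maximal ?_
    (Subgroup.zpowers_isMulCommutative _) ?_ perfect core_trivial
  · intro h hh x hx
    obtain ⟨k, rfl⟩ := Subgroup.mem_zpowers_iff.mp hx
    have e : h * t * h⁻¹ = t := by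
      rw [t_central h hh, mul_inv_cancel_right]
    rw [← conj_zpow, e]
    exact Subgroup.zpow_mem_zpowers _ _
  · rw [eq_top_iff, ← normalClosure_t]
    apply Subgroup.normalClosure_mono
    intro y hy
    rw [Set.mem_singleton_iff.mp hy]
    exact Subgroup.mem_zpowers _

end Cfsg.Agent.Helper28.F23
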